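import Mathlib

/-!
# Specializations of the image of a closed set under a quasi-compact morphism

For a quasi-compact morphism `f : X ⟶ Y` and a closed subset `T ⊆ X`, the set of all
specializations of points of `f(T)` is closed in `Y` (it is the closure of `f(T)`).
-/

set_option autoImplicit false
universe u
open AlgebraicGeometry CategoryTheory TopologicalSpace

namespace Groth.Agent.H70.SpecClosure

variable {X Y : Scheme.{u}} (f : X ⟶ Y)

/-- Affine-local key step: for affine opens `U ⊆ f⁻¹ V`, a closed `T ⊆ X` and a point `y₀ ∈ V`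
which is not a specialization of a point of `f(T)`, there is a section `a` on `V` not vanishing
at `y₀` but vanishing at every point of `f(T ∩ U)`. -/
theorem exists_section_separating {T : Set X} (hT : IsClosed T)
    {V : Y.Opens} (hV : IsAffineOpen V) {U : X.Opens} (hU : IsAffineOpen U) (e : U ≤ f ⁻¹ᵁ V)
    (y₀ : Y) (hyV : y₀ ∈ V) (hy₀ : ¬ ∃ x ∈ T, f x ⤳ y₀) :
    ∃ a : Γ(Y, V), y₀ ∈ Y.basicOpen a ∧ ∀ x ∈ T, x ∈ U → f x ∉ Y.basicOpen a := by
  set φ : Γ(Y, V) →+* Γ(X, U) := (f.appLE V U e).hom with hφ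
  let T' : Set (PrimeSpectrum Γ(X, U)) := fun q => hU.fromSpec q ∈ T
  have hTc : IsClosed T' := hT.preimage hU.fromSpec.continuous
  set I : Ideal Γ(X, U) := PrimeSpectrum.vanishingIdeal T' with hI
  have hzl : PrimeSpectrum.zeroLocus (I : Set Γ(X, U)) = T' := by
    have h := PrimeSpectrum.zeroLocus_vanishingIdeal_eq_closure T'
    rw [hTc.closure_eq] at h
    exact h
  set p₀ : PrimeSpectrum Γ(Y, V) := hV.primeIdealOf ⟨y₀, hyV⟩ with hp₀
  have hfp₀ : hV.fromSpec p₀ = y₀ := hV.fromSpec_primeIdealOf ⟨y₀, hyV⟩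
  have hnat : ∀ q : PrimeSpectrum Γ(X, U),
      hV.fromSpec (PrimeSpectrum.comap φ q) = f (hU.fromSpec q) := by
    intro q
    have h := congrArg (fun g : Spec Γ(X, U) ⟶ Y => g q)
      (IsAffineOpen.SpecMap_appLE_fromSpec f hV hU e)
    simp only [Scheme.Hom.comp_apply] at h
    exact h
  have hnot : ¬ I.comap φ ≤ p₀.asIdeal := by
    intro hle
    obtain ⟨q, hIq, hq, hqle⟩ := Ideal.exists_ideal_comap_le_prime p₀.asIdeal I hle
    let q' : PrimeSpectrum Γ(X, U) := ⟨q, hq⟩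
    have hqT : hU.fromSpec q' ∈ T := by
      have : q' ∈ PrimeSpectrum.zeroLocus (I : Set Γ(X, U)) := hIq
      rw [hzl] at this
      exact this
    apply hy₀
    refine ⟨hU.fromSpec q', hqT, ?_⟩
    have h1 : (PrimeSpectrum.comap φ q') ⤳ p₀ :=
      (PrimeSpectrum.le_iff_specializes _ _).mp hqle
    have h2 : hV.fromSpec (PrimeSpectrum.comap φ q') ⤳ hV.fromSpec p₀ :=
      Specializes.map (f := hV.fromSpec) h1 hV.fromSpec.continuous
    rw [hnat, hfp₀] at h2
    exact h2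
  obtain ⟨a, haJ, hap⟩ := SetLike.not_le_iff_exists.mp hnot
  have hbo : ∀ p : PrimeSpectrum Γ(Y, V), hV.fromSpec p ∈ Y.basicOpen a ↔ a ∉ p.asIdeal := by
    intro p
    have h := hV.fromSpec_preimage_basicOpen a
    constructor
    · intro hp
      have : p ∈ (hV.fromSpec ⁻¹ᵁ Y.basicOpen a) := hp
      rw [h] at this
      exact this
    · intro hp
      have : p ∈ (hV.fromSpec ⁻¹ᵁ Y.basicOpen a) := by
        rw [h]
        exact hp
      exact this
  refine ⟨a, ?_, ?_⟩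
  · rw [← hfp₀, hbo]
    exact hap
  · intro x hxT hxU hfx
    set q : PrimeSpectrum Γ(X, U) := hU.primeIdealOf ⟨x, hxU⟩ with hq
    have hfq : hU.fromSpec q = x := hU.fromSpec_primeIdealOf ⟨x, hxU⟩
    have hqT : q ∈ T' := by
      change hU.fromSpec q ∈ T
      rw [hfq]
      exact hxT
    rw [← hzl] at hqT
    have hIq : I ≤ q.asIdeal := hqT
    have h1 : φ a ∈ q.asIdeal := hIq haJ
    have h2 : a ∈ (PrimeSpectrum.comap φ q).asIdeal := h1
    have h3 : hV.fromSpec (PrimeSpectrum.comap φ q) ∈ Y.basicOpen a := by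
      rw [hnat, hfq]
      exact hfx
    exact (hbo _).mp h3 h2

/-- For a quasi-compact morphism `f` and a closed set `T`, the set of specializations of points
of `f(T)` is closed. -/
theorem isClosed_setOf_exists_specializes [QuasiCompact f] {T : Set X} (hT : IsClosed T) :
    IsClosed {y : Y | ∃ x ∈ T, f x ⤳ y} := by
  classical
  rw [← isOpen_compl_iff, isOpen_iff_forall_mem_open]
  intro y₀ hy₀
  obtain ⟨_, ⟨V, hV : IsAffineOpen V, rfl⟩, hyV, -⟩ :=
    Y.isBasis_affineOpens.exists_subset_of_mem_open (Set.mem_univ y₀) isOpen_univ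
  have hc : IsCompact ((f ⁻¹ᵁ V : X.Opens) : Set X) :=
    QuasiCompact.isCompact_preimage (f := f) _ V.isOpen hV.isCompact
  obtain ⟨s, hs, hsU⟩ := (isCompact_iff_finite_and_eq_biUnion_affineOpens).mp hc
  have hmem : ∀ x : X, x ∈ f ⁻¹ᵁ V ↔ ∃ U ∈ s, x ∈ (U : X.Opens) := by
    intro x
    rw [hsU]
    simp only [Opens.mem_iSup, exists_prop]
  have key : ∀ U : X.affineOpens, ∃ a : Γ(Y, V), y₀ ∈ Y.basicOpen a ∧
      ((U : X.Opens) ≤ f ⁻¹ᵁ V → ∀ x ∈ T, x ∈ (U : X.Opens) → f x ∉ Y.basicOpen a) := by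
    intro U
    by_cases hUV : (U : X.Opens) ≤ f ⁻¹ᵁ V
    · obtain ⟨a, ha1, ha2⟩ := exists_section_separating f hT hV U.2 hUV y₀ hyV hy₀
      exact ⟨a, ha1, fun _ => ha2⟩
    · refine ⟨1, ?_, fun h => absurd h hUV⟩
      rw [Scheme.basicOpen_of_isUnit _ isUnit_one]
      exact hyV
  choose a ha1 ha2 using key
  refine ⟨(V : Set Y) ∩ ⋂ U ∈ s, (Y.basicOpen (a U) : Set Y), ?_, ?_, ?_⟩
  · rintro y ⟨hyV', hyW⟩ ⟨x, hxT, hxy⟩
    have hfxV : f x ∈ V := hxy.mem_open V.isOpen hyV'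
    obtain ⟨U, hUs, hxU⟩ := (hmem x).mp hfxV
    have hUV : (U : X.Opens) ≤ f ⁻¹ᵁ V := fun z hz => (hmem z).mpr ⟨U, hUs, hz⟩
    have hyU : y ∈ (Y.basicOpen (a U) : Set Y) := by
      simp only [Set.mem_iInter] at hyW
      exact hyW U hUs
    have hfx : f x ∈ Y.basicOpen (a U) := hxy.mem_open (Y.basicOpen (a U)).isOpen hyU
    exact ha2 U hUV x hxT hxU hfx
  · exact V.isOpen.inter (hs.isOpen_biInter fun U _ => (Y.basicOpen (a U)).isOpen)
  · refine ⟨hyV, ?_⟩
    simp only [Set.mem_iInter]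
    intro U _
    exact ha1 U

end Groth.Agent.H70.SpecClosure
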